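import Mathlib.FieldTheory.IsPerfectClosure
import Mathlib.CategoryTheory.Presentable.Finite
import Mathlib.CategoryTheory.Filtered.Basic
import Mathlib.RingTheory.FinitePresentation
import Mathlib.Algebra.Category.Ring.Basic
import Mathlib.CategoryTheory.Comma.Over.Basic
import Mathlib.RingTheory.Adjoin.FG

/-! A compact perfect algebra is the perfect closure of a finitely presented one. -/

set_option autoImplicit false

universe u

open CategoryTheory CategoryTheory.Limits

noncomputable section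

namespace Groth.Agent.PerfModel31

variable (p : ℕ) (B : CommRingCat.{u})

abbrev PProp : ObjectProperty (Under B) :=
  fun Y : Under B => (p : Y.right) = 0 ∧ Function.Bijective fun y : Y.right => y ^ p

abbrev PCat := ObjectProperty.FullSubcategory (PProp p B)

variable {p B}

/-- The underlying ring map of a morphism. -/
abbrev rh {X Y : PCat p B} (f : X ⟶ Y) : X.obj.right →+* Y.obj.right := f.hom.right.hom

theorem rh_base {X Y : PCat p B} (f : X ⟶ Y) (b : B) : rh f (X.obj.hom.hom b) = Y.obj.hom.hom b :=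
  ConcreteCategory.congr_hom (Under.w f.hom) b

theorem rh_comp {X Y Z : PCat p B} (f : X ⟶ Y) (g : Y ⟶ Z) (x : X.obj.right) :
    rh (f ≫ g) x = rh g (rh f x) := rfl

theorem rh_id {X : PCat p B} (x : X.obj.right) : rh (𝟙 X) x = x := rfl

/-- A morphism from a ring map. -/
def mkHom {X Y : PCat p B} (f : X.obj.right →+* Y.obj.right)
    (hf : ∀ b, f (X.obj.hom.hom b) = Y.obj.hom.hom b) : X ⟶ Y :=
  ObjectProperty.homMk (Under.homMk (CommRingCat.ofHom f) (CommRingCat.hom_ext (RingHom.ext hf)))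

theorem rh_mkHom {X Y : PCat p B} (f : X.obj.right →+* Y.obj.right)
    (hf : ∀ b, f (X.obj.hom.hom b) = Y.obj.hom.hom b) (x : X.obj.right) : rh (mkHom f hf) x = f x := rfl

theorem mkHom_comp {X Y Z : PCat p B} (f : X.obj.right →+* Y.obj.right)
    (hf : ∀ b, f (X.obj.hom.hom b) = Y.obj.hom.hom b) (g : Y.obj.right →+* Z.obj.right)
    (hg : ∀ b, g (Y.obj.hom.hom b) = Z.obj.hom.hom b) (h : X.obj.right →+* Z.obj.right)
    (hh : ∀ b, h (X.obj.hom.hom b) = Z.obj.hom.hom b) (e : g.comp f = h) :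
    mkHom f hf ≫ mkHom g hg = mkHom h hh := by
  subst e; rfl

theorem mkHom_id {X : PCat p B} (f : X.obj.right →+* X.obj.right)
    (hf : ∀ b, f (X.obj.hom.hom b) = X.obj.hom.hom b) (e : f = RingHom.id _) : mkHom f hf = 𝟙 X := by
  subst e; rfl

theorem hom_ext' {X Y : PCat p B} {f g : X ⟶ Y} (h : ∀ x, rh f x = rh g x) : f = g :=
  ObjectProperty.hom_ext _ (Under.UnderMorphism.ext (CommRingCat.hom_ext (RingHom.ext h)))

/-- Directed colimits are computed on elements. -/
theorem isColimit_of_elements {ι : Type u} [Preorder ι] [IsDirected ι (· ≤ ·)] [Nonempty ι]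
    {F : ι ⥤ PCat p B} (c : Cocone F)
    (hsurj : ∀ a : c.pt.obj.right, ∃ j x, rh (c.ι.app j) x = a)
    (hinj : ∀ j x y, rh (c.ι.app j) x = rh (c.ι.app j) y →
      ∃ (k : ι) (h : j ⟶ k), rh (F.map h) x = rh (F.map h) y) :
    Nonempty (IsColimit c) := by
  classical
  choose J X hX using hsurj
  have key : ∀ (s : Cocone F) (j : ι) (x : (F.obj j).obj.right) (a : c.pt.obj.right),
      rh (c.ι.app j) x = a → rh (s.ι.app (J a)) (X a) = rh (s.ι.app j) x := by
    intro s j x a ha
    obtain ⟨k, hk, hk'⟩ := directed_of (· ≤ ·) j (J a)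
    have w : ∀ (t : Cocone F) (i : ι) (h : i ≤ k) (z : (F.obj i).obj.right),
        rh (t.ι.app k) (rh (F.map (homOfLE h)) z) = rh (t.ι.app i) z := fun t i h z => by
      rw [← rh_comp, t.w]
    obtain ⟨l, hl, he⟩ := hinj k (rh (F.map (homOfLE hk)) x) (rh (F.map (homOfLE hk')) (X a))
      (by rw [w, w, ha, hX])
    have := congrArg (rh (s.ι.app l)) he
    rw [← rh_comp, ← rh_comp (F.map hl), s.w, w, w] at this
    exact this.symm
  have push : ∀ (j : ι) (a : c.pt.obj.right), J a ≤ j → ∃ x, rh (c.ι.app j) x = a := fun j a h =>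
    ⟨rh (F.map (homOfLE h)) (X a), by rw [← rh_comp, c.w, hX]⟩
  let d : ∀ s : Cocone F, c.pt.obj.right →+* s.pt.obj.right := fun s =>
    { toFun := fun a => rh (s.ι.app (J a)) (X a)
      map_one' := by rw [key s (J 1) 1 1 (map_one _), map_one]
      map_zero' := by rw [key s (J 0) 0 0 (map_zero _), map_zero]
      map_mul' := fun a b => by
        obtain ⟨k, hk, hk'⟩ := directed_of (· ≤ ·) (J a) (J b)
        obtain ⟨x, hx⟩ := push k a hk
        obtain ⟨y, hy⟩ := push k b hk'
        rw [key s k x a hx, key s k y b hy, key s k (x * y) (a * b) (by rw [map_mul, hx, hy]), map_mul]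
      map_add' := fun a b => by
        obtain ⟨k, hk, hk'⟩ := directed_of (· ≤ ·) (J a) (J b)
        obtain ⟨x, hx⟩ := push k a hk
        obtain ⟨y, hy⟩ := push k b hk'
        rw [key s k x a hx, key s k y b hy, key s k (x + y) (a + b) (by rw [map_add, hx, hy]), map_add] }
  exact ⟨{
    desc := fun s => mkHom (d s) fun b => by
      have j := J (c.pt.obj.hom.hom b)
      show rh (s.ι.app _) _ = _
      have h0 : rh (c.ι.app j) ((F.obj j).obj.hom.hom b) = c.pt.obj.hom.hom b := rh_base _ b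
      exact (key s j _ _ h0).trans (rh_base (s.ι.app j) b)
    fac := fun s j => hom_ext' fun x => by
      rw [rh_comp, rh_mkHom]
      exact key s j x _ rfl
    uniq := fun s m hm => hom_ext' fun a => by
      rw [rh_mkHom]
      show rh m a = rh (s.ι.app (J a)) (X a)
      conv_lhs => rw [← hX a]
      rw [← rh_comp, hm] }⟩

theorem perfectClosure_ext {K : Type u} [CommRing K] [Fact p.Prime] [CharP K p] {L : Type u} [CommRing L]
    [CharP L p] [PerfectRing L p] {f g : PerfectClosure K p →+* L}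
    (h : f.comp (PerfectClosure.of K p) = g.comp (PerfectClosure.of K p)) : f = g :=
  (PerfectClosure.lift K p L).symm.injective h

theorem lift_of {K : Type u} [CommRing K] [Fact p.Prime] [CharP K p] {L : Type u} [CommRing L]
    [CharP L p] [PerfectRing L p] (f : K →+* L) (x : K) :
    PerfectClosure.lift K p L f (PerfectClosure.of K p x) = f x :=
  RingHom.congr_fun ((PerfectClosure.lift K p L).symm_apply_apply f) x

section StageOne

variable [Fact p.Prime] (A : PCat p B) [CharP A.obj.right p] [PerfectRing A.obj.right p]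

/-- perfect closure of the subalgebra generated by `s` -/
def Cs (s : Set A.obj.right) : Subring A.obj.right where
  carrier := {x | ∃ n : ℕ, x ^ p ^ n ∈ @Algebra.adjoin B A.obj.right _ _ A.obj.hom.hom.toAlgebra s}
  one_mem' := ⟨0, by simp⟩
  zero_mem' := ⟨0, by simp⟩
  mul_mem' := by
    rintro x y ⟨n, hn⟩ ⟨m, hm⟩
    refine ⟨n + m, ?_⟩
    rw [mul_pow]
    refine mul_mem ?_ ?_
    · rw [pow_add, pow_mul]; exact pow_mem hn _
    · rw [add_comm n, pow_add, pow_mul]; exact pow_mem hm _
  add_mem' := by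
    rintro x y ⟨n, hn⟩ ⟨m, hm⟩
    refine ⟨n + m, ?_⟩
    rw [add_pow_char_pow]
    refine add_mem ?_ ?_
    · rw [pow_add, pow_mul]; exact pow_mem hn _
    · rw [add_comm n, pow_add, pow_mul]; exact pow_mem hm _
  neg_mem' := by
    rintro x ⟨n, hn⟩
    refine ⟨n, ?_⟩
    rw [← iterateFrobenius_def, map_neg, iterateFrobenius_def]
    exact neg_mem hn

theorem Cs_base (s : Set A.obj.right) (b : B) : A.obj.hom.hom b ∈ Cs A s :=
  letI := A.obj.hom.hom.toAlgebra
  ⟨0, by rw [pow_zero, pow_one]; exact (Algebra.adjoin B s).algebraMap_mem b⟩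

theorem Cs_zero (s : Set A.obj.right) : (p : Cs A s) = 0 :=
  Subtype.ext (by simpa using A.property.1)

theorem Cs_bij (s : Set A.obj.right) : Function.Bijective fun y : Cs A s => y ^ p := by
  refine ⟨fun x y h => Subtype.ext (A.property.2.1 (by simpa using congrArg Subtype.val h)), fun x => ?_⟩
  obtain ⟨y, hy⟩ := A.property.2.2 x.1
  obtain ⟨n, hn⟩ := x.2
  refine ⟨⟨y, n + 1, ?_⟩, Subtype.ext (by simpa using hy)⟩
  rw [pow_succ', pow_mul, show y ^ p = x.1 from hy]
  exact hn

theorem Cs_mono {s t : Set A.obj.right} (h : s ⊆ t) : Cs A s ≤ Cs A t :=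
  fun _ ⟨n, hn⟩ => letI := A.obj.hom.hom.toAlgebra; ⟨n, Algebra.adjoin_mono h hn⟩

/-- stage-one objects -/
def obj1 (s : Finset A.obj.right) : PCat p B :=
  ⟨Under.mk (CommRingCat.ofHom (A.obj.hom.hom.codRestrict (Cs A (s : Set A.obj.right)) (Cs_base A _))),
    Cs_zero A _, Cs_bij A _⟩

/-- stage-one inclusion -/
def incl1 {s t : Finset A.obj.right} (h : s ≤ t) : obj1 A s ⟶ obj1 A t :=
  mkHom (X := obj1 A s) (Y := obj1 A t) (Subring.inclusion (Cs_mono A (Finset.coe_subset.2 h))) fun _ => rfl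

/-- stage-one map to the colimit -/
def top1 (s : Finset A.obj.right) : obj1 A s ⟶ A :=
  mkHom (X := obj1 A s) (Y := A) (Cs A (s : Set A.obj.right)).subtype fun _ => rfl

theorem top1_inj (s : Finset A.obj.right) {x y : (obj1 A s).obj.right} (h : rh (top1 A s) x = rh (top1 A s) y) :
    x = y := Subtype.ext h

theorem top1_mem (s : Finset A.obj.right) (x : (obj1 A s).obj.right) :
    rh (top1 A s) x ∈ Cs A (s : Set A.obj.right) := x.2

theorem sub_incl {R : Type u} [CommRing R] {S T : Subring R} (h : S ≤ T) :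
    T.subtype.comp (Subring.inclusion h) = S.subtype := RingHom.ext fun _ => rfl

theorem incl_id {R : Type u} [CommRing R] {S : Subring R} (h : S ≤ S) :
    Subring.inclusion h = RingHom.id S := RingHom.ext fun _ => rfl

theorem incl_incl {R : Type u} [CommRing R] {S T U : Subring R} (h : S ≤ T) (h' : T ≤ U) :
    (Subring.inclusion h').comp (Subring.inclusion h) = Subring.inclusion (h.trans h') :=
  RingHom.ext fun _ => rfl

theorem incl1_top1 {s t : Finset A.obj.right} (h : s ≤ t) : incl1 A h ≫ top1 A t = top1 A s :=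
  mkHom_comp _ _ _ _ _ _ (sub_incl (Cs_mono A (Finset.coe_subset.2 h)))

/-- stage-one system -/
def F1 : Finset A.obj.right ⥤ PCat p B where
  obj := obj1 A
  map h := incl1 A h.le
  map_id _ := mkHom_id _ _ (incl_id _)
  map_comp f g := (mkHom_comp _ _ _ _ _ _ (incl_incl (Cs_mono A (Finset.coe_subset.2 f.le))
    (Cs_mono A (Finset.coe_subset.2 g.le)))).symm

/-- stage-one cocone -/
def c1 : Cocone (F1 A) where
  pt := A
  ι := { app := top1 A
         naturality := fun s t h => (incl1_top1 A h.le).trans (Category.comp_id _).symm }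

theorem stage_one [IsFinitelyPresentable.{u} A] :
    ∃ s : Finset A.obj.right, ∀ a : A.obj.right,
      ∃ n : ℕ, a ^ p ^ n ∈ @Algebra.adjoin B A.obj.right _ _ A.obj.hom.hom.toAlgebra (s : Set A.obj.right) := by
  classical
  letI := A.obj.hom.hom.toAlgebra
  obtain ⟨hc1⟩ := isColimit_of_elements (c1 A)
    (fun (a : A.obj.right) => ⟨{a}, ⟨a, 0, by rw [pow_zero, pow_one]; exact Algebra.subset_adjoin (Finset.mem_coe.2 (Finset.mem_singleton_self a))⟩, rfl⟩)
    (fun j x y h => ⟨j, 𝟙 j, by rw [top1_inj A j h]⟩)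
  obtain ⟨s, g1, hg1⟩ := IsFinitelyPresentable.exists_hom_of_isColimit hc1 (𝟙 A)
  refine ⟨s, fun a => ?_⟩
  have h1 : rh (top1 A s) (rh (Y := obj1 A s) g1 a) = a :=
    (rh_comp (Y := obj1 A s) g1 (top1 A s) a).symm.trans (congrArg (fun φ : A ⟶ A => rh φ a) hg1)
  have h2 := top1_mem A s (rh (Y := obj1 A s) g1 a)
  rw [h1] at h2
  exact h2

end StageOne

section StageTwo

variable [Fact p.Prime] {R₀ : Type u} [CommRing R₀] {L : Type u} [CommRing L] (k1 : R₀ →+* L)

/-- ideal of finitely many relations -/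
def rel (T : Finset (RingHom.ker k1)) : Ideal R₀ := Ideal.span ((fun z : RingHom.ker k1 => z.1) '' (T : Set (RingHom.ker k1)))

theorem rel_le (T : Finset (RingHom.ker k1)) : rel k1 T ≤ RingHom.ker k1 :=
  Ideal.span_le.2 (by rintro _ ⟨z, -, rfl⟩; exact z.2)

theorem rel_mono {T T' : Finset (RingHom.ker k1)} (h : T ≤ T') : rel k1 T ≤ rel k1 T' :=
  Ideal.span_mono (Set.image_mono (Finset.coe_subset.2 h))

/-- the induced map -/
def qmap (T : Finset (RingHom.ker k1)) : R₀ ⧸ rel k1 T →+* L :=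
  Ideal.Quotient.lift (rel k1 T) k1 fun _ hz => rel_le k1 T hz

variable [∀ T : Finset (RingHom.ker k1), CharP (R₀ ⧸ rel k1 T) p]

variable (p) in
/-- the stage -/
abbrev stage (T : Finset (RingHom.ker k1)) : Type u := PerfectClosure (R₀ ⧸ rel k1 T) p

variable (p) in
/-- the generators -/
def gen (T : Finset (RingHom.ker k1)) : R₀ →+* stage p k1 T :=
  (PerfectClosure.of _ p).comp (Ideal.Quotient.mk _)

variable (p) in
/-- transition -/
def tr {T T' : Finset (RingHom.ker k1)} (h : T ≤ T') : stage p k1 T →+* stage p k1 T' :=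
  PerfectClosure.lift _ p _ ((PerfectClosure.of _ p).comp (Ideal.Quotient.factor (rel_mono k1 h)))

theorem tr_gen {T T' : Finset (RingHom.ker k1)} (h : T ≤ T') (r : R₀) :
    tr p k1 h (gen p k1 T r) = gen p k1 T' r := lift_of _ _

theorem stage_ext {T : Finset (RingHom.ker k1)} {M : Type u} [CommRing M] [CharP M p] [PerfectRing M p]
    {f g : stage p k1 T →+* M} (h : ∀ r, f (gen p k1 T r) = g (gen p k1 T r)) : f = g :=
  perfectClosure_ext (Ideal.Quotient.ringHom_ext (RingHom.ext h))

theorem tr_tr {T T' T'' : Finset (RingHom.ker k1)} (h : T ≤ T') (h' : T' ≤ T'') (h'' : T ≤ T'')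
    (x : stage p k1 T) : tr p k1 h' (tr p k1 h x) = tr p k1 h'' x :=
  RingHom.congr_fun (stage_ext k1 (f := (tr p k1 h').comp (tr p k1 h)) fun r => by
    rw [RingHom.comp_apply, tr_gen k1 h, tr_gen k1 h', tr_gen k1 h'']) x

variable [CharP L p] [PerfectRing L p]

variable (p) in
/-- the map to the colimit -/
def toPt (T : Finset (RingHom.ker k1)) : stage p k1 T →+* L := PerfectClosure.lift _ p L (qmap k1 T)

theorem toPt_gen (T : Finset (RingHom.ker k1)) (r : R₀) : toPt p k1 T (gen p k1 T r) = k1 r := lift_of _ _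

theorem toPt_tr {T T' : Finset (RingHom.ker k1)} (h : T ≤ T') (x : stage p k1 T) :
    toPt p k1 T' (tr p k1 h x) = toPt p k1 T x :=
  RingHom.congr_fun (stage_ext k1 (f := (toPt p k1 T').comp (tr p k1 h)) fun r => by
    rw [RingHom.comp_apply, tr_gen k1 h, toPt_gen, toPt_gen]) x

omit [CharP L p] [PerfectRing L p] in
theorem exists_root (T : Finset (RingHom.ker k1)) (x : stage p k1 T) :
    ∃ (n : ℕ) (r : R₀), x ^ p ^ n = gen p k1 T r := by
  obtain ⟨⟨n, q'⟩, rfl⟩ := PerfectClosure.mk_surjective (R₀ ⧸ rel k1 T) p x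
  obtain ⟨r, rfl⟩ := Ideal.Quotient.mk_surjective q'
  refine ⟨n, r, ?_⟩
  rw [← iterate_frobenius, PerfectClosure.iterate_frobenius_mk]
  rfl

theorem exists_later (T : Finset (RingHom.ker k1)) (x y : stage p k1 T)
    (h : toPt p k1 T x = toPt p k1 T y) :
    ∃ (T' : Finset (RingHom.ker k1)) (h : T ≤ T'), tr p k1 h x = tr p k1 h y := by
  classical
  obtain ⟨n, r, hr⟩ := exists_root k1 T (x - y)
  have hrk : r ∈ RingHom.ker k1 := by
    rw [RingHom.mem_ker, ← toPt_gen (p := p) k1 T r, ← hr, map_pow, map_sub, h, sub_self,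
      zero_pow (pow_ne_zero n (Fact.out : p.Prime).ne_zero)]
  have hle' : T ≤ insert ⟨r, hrk⟩ T := Finset.subset_insert _ _
  refine ⟨insert ⟨r, hrk⟩ T, hle', ?_⟩
  rw [← sub_eq_zero, ← map_sub]
  refine IsReduced.eq_zero _ ⟨p ^ n, ?_⟩
  rw [← map_pow, hr, tr_gen k1 hle']
  show PerfectClosure.of _ p (Ideal.Quotient.mk _ r) = 0
  rw [show Ideal.Quotient.mk (rel k1 (insert ⟨r, hrk⟩ T)) r = 0 from
    Ideal.Quotient.eq_zero_iff_mem.2 (Ideal.subset_span ⟨⟨r, hrk⟩, by simp, rfl⟩), map_zero]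

end StageTwo

theorem stage_two [Fact p.Prime] (A : PCat p B) [IsFinitelyPresentable.{u} A] [CharP A.obj.right p]
    [PerfectRing A.obj.right p] {R₀ : Type u} [CommRing R₀] (st : B →+* R₀) (k1 : R₀ →+* A.obj.right)
    [∀ T : Finset (RingHom.ker k1), CharP (R₀ ⧸ rel k1 T) p]
    (hst : ∀ b, k1 (st b) = A.obj.hom.hom b)
    (hk1 : ∀ a : A.obj.right, ∃ (n : ℕ) (r : R₀), k1 r = a ^ p ^ n) :
    ∃ (T : Finset (RingHom.ker k1)) (g : A.obj.right →+* stage p k1 T),
      (∀ b, g (A.obj.hom.hom b) = gen p k1 T (st b)) ∧ ∀ a, toPt p k1 T (g a) = a := by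
  classical
  let obj2 : Finset (RingHom.ker k1) → PCat p B := fun T =>
    ⟨Under.mk (CommRingCat.ofHom ((gen p k1 T).comp st)), CharP.cast_eq_zero (stage p k1 T) p,
      PerfectRing.bijective_frobenius (R := stage p k1 T) (p := p)⟩
  let F2 : Finset (RingHom.ker k1) ⥤ PCat p B :=
    { obj := obj2
      map := fun {T T'} h => mkHom (X := obj2 T) (Y := obj2 T') (tr p k1 h.le) fun b => tr_gen k1 h.le (st b)
      map_id := fun T => hom_ext' fun x =>
        RingHom.congr_fun (stage_ext k1 (f := tr p k1 le_rfl) (g := RingHom.id _) fun r => tr_gen k1 le_rfl r) x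
      map_comp := fun f g => hom_ext' fun x => (tr_tr k1 f.le g.le (f ≫ g).le x).symm }
  let c2 : Cocone F2 :=
    { pt := A
      ι := { app := fun T => mkHom (X := obj2 T) (Y := A) (toPt p k1 T) fun b =>
               (toPt_gen k1 T (st b)).trans (hst b)
             naturality := fun T T' h => hom_ext' fun x => toPt_tr k1 h.le x } }
  obtain ⟨hc2⟩ := isColimit_of_elements c2
    (fun a => by
      obtain ⟨n, r, hr⟩ := hk1 a
      refine ⟨∅, PerfectClosure.mk _ p (n, Ideal.Quotient.mk _ r), ?_⟩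
      show toPt p k1 ∅ _ = a
      apply (injective_frobenius A.obj.right p).iterate n
      rw [iterate_frobenius, iterate_frobenius, ← map_pow, ← hr, ← toPt_gen (p := p) k1 ∅ r]
      congr 1
      rw [← iterate_frobenius, PerfectClosure.iterate_frobenius_mk]
      rfl)
    (fun T x y h => by
      obtain ⟨T', hle, he⟩ := exists_later k1 T x y h
      exact ⟨T', homOfLE hle, he⟩)
  obtain ⟨T, g2, hg2⟩ := IsFinitelyPresentable.exists_hom_of_isColimit hc2 (𝟙 A)
  exact ⟨T, rh g2, fun b => rh_base g2 b, fun a => congrArg (fun φ => rh φ a) hg2⟩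

theorem model [Fact p.Prime] (hB : (p : B) = 0) (A : PCat p B) [IsFinitelyPresentable.{u} A]
    [Nontrivial A.obj.right] :
    ∃ (A₀ : Type u) (_ : CommRing A₀) (_ : Algebra B A₀) (_ : Algebra.FinitePresentation B A₀)
      (k : A₀ →+* A.obj.right), k.comp (algebraMap B A₀) = A.obj.hom.hom ∧ IsPRadical k p := by
  classical
  have hp : p.Prime := Fact.out
  haveI : CharP A.obj.right p := (CharP.charP_iff_prime_eq_zero hp).2 A.property.1
  haveI : PerfectRing A.obj.right p :=
    ⟨(funext fun x => frobenius_def p x : (frobenius A.obj.right p : _ → _) = fun x => x ^ p) ▸ A.property.2⟩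
  letI : Algebra B A.obj.right := A.obj.hom.hom.toAlgebra
  obtain ⟨s, hgen⟩ := stage_one A
  let k1a : MvPolynomial ↥s B →ₐ[B] A.obj.right := MvPolynomial.aeval fun i => i.1
  let k1 := k1a.toRingHom
  have hk1 : ∀ a : A.obj.right, ∃ (n : ℕ) (r : MvPolynomial ↥s B), k1 r = a ^ p ^ n := fun a => by
    obtain ⟨n, hn⟩ := hgen a
    rw [show (s : Set A.obj.right) = Set.range (fun i : ↥s => i.1) by simp,
      Algebra.adjoin_range_eq_range_aeval] at hn
    exact ⟨n, hn⟩
  have hR₀ : (p : MvPolynomial ↥s B) = 0 := by rw [← map_natCast (MvPolynomial.C (σ := ↥s) (R := B)), hB, map_zero]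
  haveI : ∀ T, Nontrivial (MvPolynomial ↥s B ⧸ rel k1 T) := fun T => (qmap k1 T).domain_nontrivial
  haveI : ∀ T, CharP (MvPolynomial ↥s B ⧸ rel k1 T) p := fun T => (CharP.charP_iff_prime_eq_zero hp).2
    (by rw [← map_natCast (Ideal.Quotient.mk (rel k1 T)), hR₀, map_zero])
  obtain ⟨T, g2, hg2b, hug⟩ := stage_two A MvPolynomial.C k1 (fun b => k1a.commutes b) hk1
  have hagree : ∀ i : ↥s, ∃ (T' : Finset (RingHom.ker k1)) (h : T ≤ T'),
      tr p k1 h (g2 i.1) = gen p k1 T' (MvPolynomial.X i) := fun i => by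
    obtain ⟨T', h, he⟩ := exists_later k1 T (g2 i.1) (gen p k1 T (MvPolynomial.X i))
      (by rw [hug, toPt_gen]; exact (MvPolynomial.aeval_X _ i).symm)
    exact ⟨T', h, he.trans (tr_gen k1 h _)⟩
  choose Ti hTi hTi' using hagree
  let T' := T ∪ Finset.univ.biUnion Ti
  have hTT' : T ≤ T' := Finset.subset_union_left
  let g' : A.obj.right →+* stage p k1 T' := (tr p k1 hTT').comp g2
  have hid : ∀ x, g' (toPt p k1 T' x) = x := by
    refine RingHom.congr_fun (stage_ext k1 (f := g'.comp (toPt p k1 T')) (g := RingHom.id _) fun r => ?_)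
    rw [RingHom.comp_apply, toPt_gen, RingHom.id_apply]
    refine RingHom.congr_fun (f := g'.comp k1) (g := gen p k1 T')
      (MvPolynomial.ringHom_ext (fun b => ?_) (fun i => ?_)) r
    · show g' (k1 (MvPolynomial.C b)) = _
      rw [show k1 (MvPolynomial.C b) = A.obj.hom.hom b from k1a.commutes b]
      show tr p k1 hTT' (g2 (A.obj.hom.hom b)) = _
      rw [hg2b]
      exact tr_gen k1 hTT' (MvPolynomial.C b)
    · show g' (k1 (MvPolynomial.X i)) = _
      rw [show k1 (MvPolynomial.X i) = i.1 from MvPolynomial.aeval_X _ i]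
      have hi : Ti i ≤ T' := (Finset.subset_biUnion_of_mem Ti (Finset.mem_univ i)).trans Finset.subset_union_right
      show tr p k1 hTT' (g2 i.1) = _
      rw [← tr_gen k1 hi, ← hTi' i, tr_tr k1 (hTi i) hi hTT']
  haveI : Algebra.FinitePresentation B (MvPolynomial ↥s B ⧸ rel k1 T') :=
    Algebra.FinitePresentation.quotient ⟨T'.image (fun z : RingHom.ker k1 => z.1), by simp [rel]⟩
  refine ⟨MvPolynomial ↥s B ⧸ rel k1 T', inferInstance, inferInstance, this, qmap k1 T', RingHom.ext fun b => ?_, ?_⟩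
  · exact k1a.commutes b
  · refine ⟨fun a => ?_, fun z hz => ?_⟩
    · obtain ⟨n, r, hr⟩ := hk1 a
      exact ⟨n, Ideal.Quotient.mk _ r, hr⟩
    · have h1 : PerfectClosure.of (MvPolynomial ↥s B ⧸ rel k1 T') p z = 0 := by
        rw [← hid (PerfectClosure.of _ p z), show toPt p k1 T' (PerfectClosure.of _ p z) = qmap k1 T' z from lift_of _ _,
          RingHom.mem_ker.1 hz, map_zero]
      exact IsPRadical.ker_le (PerfectClosure.of (MvPolynomial ↥s B ⧸ rel k1 T') p) p h1

end Groth.Agent.PerfModel31
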